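import Groth.Agent.SqZeroLiftLib.Basic
import Mathlib.RingTheory.RingHom.Flat
import Mathlib.RingTheory.Flat.TorsionFree
import Mathlib.RingTheory.Flat.Stability

/-!
# Flat lifts of a principal ideal along a square-zero thickening
-/

set_option autoImplicit false
set_option linter.style.haveILetI false

universe u

open TensorProduct

namespace Groth.Agent.NCDLiftLib

theorem flat_quot_X (A : Type u) [CommRing A] {ι : Type u} (i : ι) :
    Module.Flat A (MvPolynomial ι A ⧸ Ideal.span {(MvPolynomial.X i : MvPolynomial ι A)}) := by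
  classical
  let I : Ideal (MvPolynomial ι A) := Ideal.span {MvPolynomial.X i}
  let s : MvPolynomial ι A →ₐ[A] MvPolynomial ι A :=
    MvPolynomial.aeval fun j => if j = i then 0 else MvPolynomial.X j
  have hs : ∀ a ∈ I, s a = 0 := fun a ha => by
    obtain ⟨b, rfl⟩ := Ideal.mem_span_singleton'.1 ha
    simp [s]
  let t : (MvPolynomial ι A ⧸ I) →ₐ[A] MvPolynomial ι A := Ideal.Quotient.liftₐ _ s hs
  refine Module.Flat.of_retract t.toLinearMap (Ideal.Quotient.mkₐ A I).toLinearMap ?_
  have h : (Ideal.Quotient.mkₐ A I).comp s = Ideal.Quotient.mkₐ A I := by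
    refine MvPolynomial.algHom_ext fun j => ?_
    by_cases hj : j = i
    · subst hj
      simp [s, Ideal.Quotient.eq_zero_iff_mem.2 (Ideal.mem_span_singleton_self (MvPolynomial.X j : MvPolynomial ι A)), I]
    · simp [s, hj]
  refine LinearMap.ext fun a => ?_
  obtain ⟨a, rfl⟩ := Ideal.Quotient.mk_surjective a
  exact congr($h a)

/-- The coordinates of a flat morphism to affine space are regular. -/
theorem coord_regular {A B : Type u} [CommRing A] [CommRing B] {ι : Type u} {ψ : MvPolynomial ι A →+* B}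
    (hψ : ψ.Flat) (i : ι) : ψ (MvPolynomial.X i) ∈ nonZeroDivisors B := by
  letI := ψ.toAlgebra
  haveI : Module.Flat (MvPolynomial ι A) B := hψ
  refine mem_nonZeroDivisors_iff_right.2 fun b hb => ?_
  have h : IsSMulRegular B (MvPolynomial.X i : MvPolynomial ι A) :=
    Module.Flat.isSMulRegular_of_isRegular MvPolynomial.isRegular_X
  refine h ?_
  show (MvPolynomial.X i : MvPolynomial ι A) • b = (MvPolynomial.X i : MvPolynomial ι A) • 0
  rw [smul_zero, Algebra.smul_def, mul_comm]
  exact hb

/-- The zero loci of the coordinates of a flat morphism to affine space are flat over the base. -/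
theorem coord_flat {A B : Type u} [CommRing A] [CommRing B] {ι : Type u} {ψ : MvPolynomial ι A →+* B}
    (hψ : ψ.Flat) (i : ι) :
    ((Ideal.Quotient.mk (Ideal.span {ψ (MvPolynomial.X i)})).comp (ψ.comp MvPolynomial.C)).Flat := by
  letI := ψ.toAlgebra
  haveI : Module.Flat (MvPolynomial ι A) B := hψ
  let R := MvPolynomial ι A
  let I : Ideal R := Ideal.span {(MvPolynomial.X i : MvPolynomial ι A)}
  let IB : Ideal B := I.map (algebraMap R B)
  haveI : Module.Flat (R ⧸ I) (B ⧸ IB) := by
    let e : (R ⧸ I) ⊗[R] B ≃ₗ[R] B ⧸ IB :=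
      (TensorProduct.quotTensorEquivQuotSMul B I).trans
        ((Submodule.quotEquivOfEq _ _ (Ideal.smul_top_eq_map I)).trans
          (Submodule.Quotient.restrictScalarsEquiv R IB))
    exact Module.Flat.of_linearEquiv (e.symm.extendScalarsOfSurjective (S := R ⧸ I) Ideal.Quotient.mk_surjective)
  have h1 : (algebraMap A (R ⧸ I)).Flat := RingHom.flat_algebraMap_iff.2 (flat_quot_X A i)
  have h2 : (algebraMap (R ⧸ I) (B ⧸ IB)).Flat := RingHom.flat_algebraMap_iff.2 inferInstance
  have h3 : Function.Bijective (Ideal.quotEquivOfEq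
      (show IB = Ideal.span {ψ (MvPolynomial.X i)} from by
        rw [show IB = I.map ψ from rfl, Ideal.map_span, Set.image_singleton])).toRingHom := RingEquiv.bijective _
  exact ((RingHom.Flat.comp_iff_of_bijective_left h3).2 (h1.comp h2))

open SqZeroLiftLib in
/-- A flat lift of a principal ideal with regular generator is principal with regular generator,
and conversely. -/
theorem flat_iff_principal {A B A₀ B₀ : Type u} [CommRing A] [CommRing B] [CommRing A₀] [CommRing B₀]
    (φ : A →+* B) (hφ : φ.Flat) (qA : A →+* A₀) (qB : B →+* B₀) (φ₀ : A₀ →+* B₀)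
    (hc : φ₀.comp qA = qB.comp φ) (hqA : Function.Surjective qA) (hqB : Function.Surjective qB)
    (a : A) (ha : a * a = 0) (hkA : RingHom.ker qA = Ideal.span {a}) (hkB : RingHom.ker qB = Ideal.span {φ a})
    (hann : ∀ b : B, φ a * b = 0 → b ∈ Ideal.span {φ a})
    (t₀ : B₀) (ht₀ : t₀ ∈ nonZeroDivisors B₀)
    (hQ : ((Ideal.Quotient.mk (Ideal.span {t₀})).comp φ₀).Flat)
    (K : Ideal B) (hK : K.map qB = Ideal.span {t₀}) :
    (((Ideal.Quotient.mk K).comp φ).Flat → ∃ t ∈ nonZeroDivisors B, K = Ideal.span {t}) ∧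
      ∀ t, K = Ideal.span {t} → ((Ideal.Quotient.mk K).comp φ).Flat := by
  letI := φ.toAlgebra
  haveI : Module.Flat A B := hφ
  let J : Ideal A := Ideal.span {a}
  let JB := J.map (algebraMap A B)
  have hJ : J * J = ⊥ := by
    simp [J, Ideal.span_singleton_mul_span_singleton, ha]
  have hJB : JB = RingHom.ker qB := by
    rw [hkB, show JB = J.map φ from rfl, Ideal.map_span, Set.image_singleton]
  let e : (B ⧸ JB) ≃+* B₀ := (Ideal.quotEquivOfEq hJB).trans (RingHom.quotientKerEquivOfSurjective hqB)
  have he : ∀ b, e (Ideal.Quotient.mk JB b) = qB b := fun b => rfl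
  let I : Ideal (B ⧸ JB) := Ideal.span {e.symm t₀}
  have hregI : ∀ c : B ⧸ JB, c * e.symm t₀ = 0 → c = 0 := fun c h => e.injective (by
    rw [map_zero]
    exact mem_nonZeroDivisors_iff_right.1 ht₀ _ (by
      have := congrArg e h
      rwa [map_mul, RingEquiv.apply_symm_apply, map_zero] at this))
  have hKI : K.map (Ideal.Quotient.mk JB) = I := by
    have h1 : K.map (Ideal.Quotient.mk JB) = (K.map qB).map e.symm.toRingHom := by
      rw [Ideal.map_map]
      congr 1
      refine RingHom.ext fun b => ?_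
      show _ = e.symm (qB b)
      rw [← he, RingEquiv.symm_apply_apply]
    rw [h1, hK, Ideal.map_span, Set.image_singleton]
    rfl
  constructor
  · intro hflat
    haveI : Module.Flat A (B ⧸ K) := RingHom.flat_algebraMap_iff.1 (show (algebraMap A (B ⧸ K)).Flat from hflat)
    have hmem : e.symm t₀ ∈ K.map (Ideal.Quotient.mk JB) := hKI ▸ Ideal.mem_span_singleton_self _
    obtain ⟨t, htK, ht⟩ := (Ideal.mem_map_iff_of_surjective _ Ideal.Quotient.mk_surjective).1 hmem
    refine ⟨t, ?_, ?_⟩
    · refine mem_nonZeroDivisors_iff_right.2 fun b hb => ?_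
      have h1 : Ideal.Quotient.mk JB b = 0 := hregI _ (by rw [← ht, ← map_mul, hb, map_zero])
      rw [Ideal.Quotient.eq_zero_iff_mem, hJB, hkB, Ideal.mem_span_singleton'] at h1
      obtain ⟨c, rfl⟩ := h1
      have h2 : Ideal.Quotient.mk JB c = 0 := hregI _ (by
        rw [← ht, ← map_mul, Ideal.Quotient.eq_zero_iff_mem, hJB, hkB]
        exact hann _ (by rw [← hb]; ring))
      rw [Ideal.Quotient.eq_zero_iff_mem, hJB, hkB, Ideal.mem_span_singleton'] at h2
      obtain ⟨d, rfl⟩ := h2
      rw [mul_assoc, ← map_mul, ha, map_zero, mul_zero]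
    · refine le_antisymm (fun k hk => ?_) ((Ideal.span_singleton_le_iff_mem _).2 htK)
      have h1 : Ideal.Quotient.mk JB k ∈ I := hKI ▸ Ideal.mem_map_of_mem _ hk
      obtain ⟨c₀, hc₀⟩ := Ideal.mem_span_singleton'.1 h1
      obtain ⟨c, rfl⟩ := Ideal.Quotient.mk_surjective c₀
      have hy : k - c * t ∈ JB := Ideal.Quotient.eq.1 (by rw [map_mul, ht, hc₀])
      obtain ⟨z, hz⟩ := exists_nu_eq hy
      have hzK : nu z ∈ K := hz ▸ sub_mem hk (Ideal.mul_mem_left _ _ htK)
      have hp := proj_eq_zero hKI.le z hzK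
      have hI : I ≤ (Ideal.span {t}).map (Ideal.Quotient.mk JB) := by
        rw [Ideal.map_span, Set.image_singleton, ht]
      have h3 := nu_mem_of_proj_eq_zero hJ hI z hp
      rw [hz] at h3
      have := add_mem h3 (Ideal.mem_span_singleton'.2 ⟨c, rfl⟩ : c * t ∈ Ideal.span {t})
      rwa [sub_add_cancel] at this
  · rintro t rfl
    have hI : I = Ideal.span {Ideal.Quotient.mk JB t} := by
      rw [← hKI, Ideal.map_span, Set.image_singleton]
    have hregt : ∀ c : B ⧸ JB, c * Ideal.Quotient.mk JB t = 0 → c = 0 := fun c h => by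
      obtain ⟨d, hd⟩ := Ideal.mem_span_singleton'.1
        (hI ▸ Ideal.mem_span_singleton_self _ : e.symm t₀ ∈ Ideal.span {Ideal.Quotient.mk JB t})
      refine hregI c ?_
      rw [← hd, mul_left_comm, h, mul_zero]
    let eA : (A ⧸ J) ≃+* A₀ := (Ideal.quotEquivOfEq hkA.symm).trans (RingHom.quotientKerEquivOfSurjective hqA)
    let e2 : ((B ⧸ JB) ⧸ I) ≃+* B₀ ⧸ Ideal.span {t₀} :=
      Ideal.quotientEquiv I (Ideal.span {t₀}) e (by
        rw [Ideal.map_span, Set.image_singleton]
        exact congrArg (fun x => Ideal.span {x}) (e.apply_symm_apply t₀).symm)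
    haveI : Module.Flat (A ⧸ J) ((B ⧸ JB) ⧸ I) := by
      refine RingHom.flat_algebraMap_iff.1 ?_
      have h1 := (RingHom.Flat.comp_iff_of_bijective_left (g := e2.symm.toRingHom) e2.symm.bijective).2
        ((RingHom.Flat.comp_iff_of_bijective_right (g := eA.toRingHom) eA.bijective).2 hQ)
      convert h1 using 1
      refine Ideal.Quotient.ringHom_ext (RingHom.ext fun x => ?_)
      show Ideal.Quotient.mk I (Ideal.Quotient.mk JB (φ x)) =
        e2.symm (Ideal.Quotient.mk (Ideal.span {t₀}) (φ₀ (qA x)))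
      rw [show φ₀ (qA x) = qB (φ x) from congr($hc x)]
      exact (e2.symm_apply_apply (Ideal.Quotient.mk I (Ideal.Quotient.mk JB (φ x)))).symm
    have hflat : Module.Flat A (B ⧸ Ideal.span {t}) := by
      refine flat_lift (I := I) hJ _ hKI fun z hz => ?_
      obtain ⟨c, hc⟩ := Ideal.mem_span_singleton'.1 hz
      have h1 : Ideal.Quotient.mk JB c = 0 := hregt _ (by
        rw [← map_mul, hc, Ideal.Quotient.eq_zero_iff_mem]
        exact nu_mem_map z)
      obtain ⟨w, rfl⟩ := exists_nu_eq (Ideal.Quotient.eq_zero_iff_mem.1 h1)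
      have hzw : z = t • w := nu_injective (by rw [nu_smul, mul_comm, hc])
      rw [hzw, proj_smul]
      generalize proj I w = x
      induction x using TensorProduct.induction_on with
      | zero => simp
      | tmul q j =>
        obtain ⟨q, rfl⟩ := Ideal.Quotient.mk_surjective q
        rw [TensorProduct.smul_tmul', show t • Ideal.Quotient.mk I q = 0 from ?_, TensorProduct.zero_tmul]
        show Ideal.Quotient.mk I (t • q) = 0
        rw [Ideal.Quotient.eq_zero_iff_mem, hI, Algebra.smul_def]
        exact Ideal.mul_mem_right _ _ (Ideal.mem_span_singleton_self _)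
      | add x y hx hy => rw [smul_add, hx, hy, add_zero]
    exact RingHom.flat_algebraMap_iff.2 hflat

/-- A flat algebra over `ℤ/p²` has the annihilator of `p` generated by `p`. -/
theorem ann_p_of_flat (p : ℕ) {B : Type u} [CommRing B] (φ : ULift.{u} (ZMod (p ^ 2)) →+* B) (hφ : φ.Flat)
    (hp : p ≠ 0) (b : B) (hb : (p : B) * b = 0) : b ∈ Ideal.span {(p : B)} := by
  let R := ULift.{u} (ZMod (p ^ 2))
  letI := φ.toAlgebra
  haveI : Module.Flat R B := hφ
  have hann : ∀ x : R, (p : R) * x = 0 → ∃ y, (p : R) * y = x := by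
    haveI : NeZero (p ^ 2) := ⟨pow_ne_zero 2 hp⟩
    intro x hx
    have h1 : ((p * x.down.val : ℕ) : ZMod (p ^ 2)) = 0 := by
      rw [Nat.cast_mul, ZMod.natCast_rightInverse x.down]
      exact congrArg ULift.down hx
    rw [ZMod.natCast_eq_zero_iff] at h1
    obtain ⟨y, hy⟩ := Nat.dvd_of_mul_dvd_mul_left (Nat.pos_of_ne_zero hp) ((dvd_of_eq (sq p).symm).trans h1)
    refine ⟨ULift.up (y : ZMod (p ^ 2)), ULift.ext _ _ ?_⟩
    show (p : ZMod (p ^ 2)) * (y : ZMod (p ^ 2)) = x.down
    rw [← Nat.cast_mul, ← hy, ZMod.natCast_rightInverse x.down]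
  have hex : Function.Exact (LinearMap.lsmul R R (p : R)) (LinearMap.lsmul R R (p : R)) := fun x =>
    ⟨fun h => hann x h, by
      rintro ⟨y, rfl⟩
      show (p : R) * ((p : R) * y) = 0
      rw [← mul_assoc, ← Nat.cast_mul, ← sq]
      refine mul_eq_zero_of_left (ULift.ext _ _ ?_) y
      show ((p ^ 2 : ℕ) : ZMod (p ^ 2)) = 0
      exact ZMod.natCast_self _⟩
  have h := Module.Flat.lTensor_exact B hex
  have key : ∀ z : B ⊗[R] R, TensorProduct.rid R B ((LinearMap.lsmul R R (p : R)).lTensor B z) =
      (p : B) * TensorProduct.rid R B z := by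
    intro z
    induction z using TensorProduct.induction_on with
    | zero => simp
    | tmul c r =>
      simp only [LinearMap.lTensor_tmul, TensorProduct.rid_tmul, LinearMap.lsmul_apply, Algebra.smul_def, Algebra.algebraMap_self, RingHom.id_apply]
      rw [show algebraMap R B ((p : R) * r) = (p : B) * algebraMap R B r from by
        rw [map_mul]; congr 1; exact map_natCast _ p, mul_assoc]
    | add x y hx hy => simp only [map_add, hx, hy, mul_add]
  obtain ⟨z, hz⟩ := (h ((TensorProduct.rid R B).symm b)).1 ((TensorProduct.rid R B).injective (by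
    rw [key, LinearEquiv.apply_symm_apply, hb, map_zero]))
  refine Ideal.mem_span_singleton'.2 ⟨TensorProduct.rid R B z, ?_⟩
  rw [mul_comm, ← key, hz, LinearEquiv.apply_symm_apply]

end Groth.Agent.NCDLiftLib
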