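import Groth.Agent.NCDLiftLib.Alg
import Groth.Agent.IdealStalkLib.Comap
import Groth.Prelude.Def_LogNCD
import Mathlib.AlgebraicGeometry.AffineSpace
import Mathlib.AlgebraicGeometry.Morphisms.Flat
import Mathlib.AlgebraicGeometry.Morphisms.Etale

/-!
# Local equations of a normal crossing divisor and reductions modulo `p`
-/

set_option autoImplicit false
set_option backward.isDefEq.respectTransparency false
set_option backward.isDefEq.respectTransparency.types false
set_option linter.style.haveILetI false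

universe u

open CategoryTheory CategoryTheory.Limits AlgebraicGeometry TopologicalSpace

noncomputable section

namespace Groth.Agent.NCDLiftLib

variable {X S : Scheme.{u}} (f : X ⟶ S)

/-- The ring map of an étale chart on affine opens. -/
theorem exists_coord_ring (W : X.Opens) {ι : Type u} (v : ι → Γ(W, ⊤))
    [Etale (AffineSpace.homOfVector (W.ι ≫ f) v)] (U : X.affineOpens) (h : U.1 ≤ W) (V : S.affineOpens)
    (e : U.1 ≤ f ⁻¹ᵁ V.1) :
    ∃ ψ : MvPolynomial ι Γ(S, V.1) →+* Γ(X, U.1), ψ.Flat ∧ ψ.comp MvPolynomial.C = (f.appLE V.1 U.1 e).hom ∧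
      ∀ i, ψ (MvPolynomial.X i) = LogNCD.sectOn W h (v i) := by
  haveI : IsAffine (U.1 : Scheme.{u}) := U.2
  haveI : IsAffine (V.1 : Scheme.{u}) := V.2
  let w : ι → Γ(X, U.1) := fun i => LogNCD.sectOn W h (v i)
  let ψ := MvPolynomial.eval₂Hom (f.appLE V.1 U.1 e).hom w
  refine ⟨ψ, ?_, MvPolynomial.eval₂Hom_comp_C _ _, fun i => MvPolynomial.eval₂Hom_X' _ _ _⟩
  let Φ := AffineSpace.homOfVector (f.resLE V.1 U.1 e) (fun i => U.1.topIso.inv (w i))
  haveI : IsOpenImmersion (AffineSpace.map ι V.1.ι) :=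
    MorphismProperty.of_isPullback (P := @IsOpenImmersion) (AffineSpace.isPullback_map _).flip inferInstance
  have hΦ : Φ ≫ AffineSpace.map ι V.1.ι = X.homOfLE h ≫ AffineSpace.homOfVector (W.ι ≫ f) v := by
    apply AffineSpace.hom_ext
    · simp only [Category.assoc, Φ, AffineSpace.map_over, AffineSpace.homOfVector_over_assoc,
        AffineSpace.homOfVector_over, Scheme.Hom.resLE_comp_ι, Scheme.homOfLE_ι_assoc]
    · intro i
      rw [Scheme.Hom.comp_appTop, CommRingCat.comp_apply, AffineSpace.map_appTop_coord,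
        AffineSpace.homOfVector_appTop_coord, Scheme.Hom.comp_appTop, CommRingCat.comp_apply,
        AffineSpace.homOfVector_appTop_coord]
      show U.1.topIso.inv (LogNCD.sectOn W h (v i)) = (X.homOfLE h).appTop (v i)
      simp only [LogNCD.sectOn_apply, Scheme.homOfLE_appTop, Scheme.Opens.topIso_hom, Scheme.Opens.topIso_inv]
      simp only [← CommRingCat.comp_apply, ← Functor.map_comp]
      rfl
  haveI : Etale (Φ ≫ AffineSpace.map ι V.1.ι) := hΦ ▸ inferInstance
  haveI : Etale Φ := Etale.of_comp _ (AffineSpace.map ι V.1.ι)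
  have hflat : Flat Φ := inferInstance
  let q := CommRingCat.ofHom ψ
  let μ : MvPolynomial ι Γ(V.1, ⊤) →+* MvPolynomial ι Γ(S, V.1) := MvPolynomial.map V.1.topIso.hom.hom
  have hkey : Φ ≫ (AffineSpace.isoOfIsAffine ι V.1.toScheme).hom =
      U.2.isoSpec.hom ≫ Spec.map (CommRingCat.ofHom μ ≫ q) := by
    rw [AffineSpace.isoOfIsAffine_hom, Scheme.toSpecΓ_naturality_assoc, ← Spec.map_comp]
    rw [IsAffineOpen.isoSpec_hom, Scheme.Opens.toSpecΓ, Category.assoc, ← Spec.map_comp]
    congr 2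
    refine CommRingCat.hom_ext (MvPolynomial.ringHom_ext (fun a => ?_) (fun j => ?_))
    · simp only [CommRingCat.hom_comp, RingHom.comp_apply, CommRingCat.hom_ofHom, MvPolynomial.eval₂Hom_C, μ, q, ψ, MvPolynomial.map_C]
      rw [← CommRingCat.comp_apply, ← Scheme.Hom.comp_appTop, AffineSpace.homOfVector_over]
      show (f.resLE V.1 U.1 e).app ⊤ a = _
      rw [Scheme.Hom.resLE_app_top]
      rfl
    · simp only [CommRingCat.hom_comp, RingHom.comp_apply, CommRingCat.hom_ofHom, MvPolynomial.eval₂Hom_X', μ, q, ψ, MvPolynomial.map_X]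
      exact AffineSpace.homOfVector_appTop_coord _ _ _
  have h1 : Flat (Φ ≫ (AffineSpace.isoOfIsAffine ι V.1.toScheme).hom) := inferInstance
  rw [hkey, MorphismProperty.cancel_left_of_respectsIso (P := @Flat), HasRingHomProperty.Spec_iff (P := @Flat)] at h1
  exact (RingHom.Flat.comp_iff_of_bijective_right (g := μ)
    ⟨MvPolynomial.map_injective _ (ConcreteCategory.bijective_of_isIso V.1.topIso.hom).1,
      MvPolynomial.map_surjective _ (ConcreteCategory.bijective_of_isIso V.1.topIso.hom).2⟩).1 h1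

/-- Local equations of a component of a relative normal crossing divisor. -/
theorem exists_local_equation {r : ℕ} {D : Fin r → X.IdealSheafData} (hD : LogNCD.IsNCD D f) (m : Fin r) (x : X) :
    ∃ W : X.Opens, x ∈ W ∧ ∀ (U : X.affineOpens), U.1 ≤ W → ∀ (V : S.affineOpens) (e : U.1 ≤ f ⁻¹ᵁ V.1),
      ∃ t ∈ nonZeroDivisors Γ(X, U.1), (D m).ideal U = Ideal.span {t} ∧
        ((Ideal.Quotient.mk (Ideal.span {t})).comp (f.appLE V.1 U.1 e).hom).Flat := by
  by_cases h : x ∈ (D m).support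
  · obtain ⟨W, hx, n, v, c, -, hv, he, -⟩ := hD x ⟨⟨m, h⟩⟩
    refine ⟨W, hx, fun U hU V e => ?_⟩
    haveI := hv
    obtain ⟨ψ, hψ, hC, hX⟩ := exists_coord_ring f W v U hU V e
    refine ⟨ψ (MvPolynomial.X (ULift.up (c ⟨m, h⟩))), coord_regular hψ _, ?_, hC ▸ coord_flat hψ _⟩
    rw [hX, he ⟨m, h⟩ U hU]
  · refine ⟨⟨((D m).support : Set X)ᶜ, (D m).support.isClosed.isOpen_compl⟩, h, fun U hU V e => ?_⟩
    have htop : (D m).ideal U = ⊤ := by
      by_contra hne
      obtain ⟨M, hM, hle⟩ := Ideal.exists_le_maximal _ hne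
      let y := U.2.fromSpec ⟨M, hM.isPrime⟩
      have hyU : y ∈ U.1 := by rw [← SetLike.mem_coe, ← U.2.range_fromSpec]; exact ⟨_, rfl⟩
      have hy : y ∈ ((D m).support : Set X) ∩ U.1 := by
        rw [(D m).coe_support_inter U, ← U.2.fromSpec_image_zeroLocus]
        exact ⟨⟨M, hM.isPrime⟩, hle, rfl⟩
      exact hU hyU hy.1
    refine ⟨1, one_mem _, by rw [htop, Ideal.span_singleton_one], ?_⟩
    haveI : Subsingleton (Γ(X, U.1) ⧸ Ideal.span {(1 : Γ(X, U.1))}) :=
      Ideal.Quotient.subsingleton_iff.2 Ideal.span_singleton_one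
    letI := ((Ideal.Quotient.mk (Ideal.span {(1 : Γ(X, U.1))})).comp (f.appLE V.1 U.1 e).hom).toAlgebra
    exact (inferInstance : Module.Flat Γ(S, V.1) (Γ(X, U.1) ⧸ Ideal.span {(1 : Γ(X, U.1))}))

/-- The reduction map. -/
def redP (p : ℕ) : ULift.{u} (ZMod (p ^ 2)) →+* ULift.{u} (ZMod p) :=
  (ZMod.castHom (dvd_pow_self p two_ne_zero) (ULift.{u} (ZMod p))).comp
    (ULift.ringEquiv : ULift.{u} (ZMod (p ^ 2)) ≃+* ZMod (p ^ 2)).toRingHom

variable (p : ℕ) [Fact p.Prime]

theorem redP_surjective : Function.Surjective (redP.{u} p) := fun y => by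
  haveI : NeZero p := ⟨(Fact.out : p.Prime).ne_zero⟩
  refine ⟨(y.down.val : ℕ), ?_⟩
  rw [map_natCast]
  exact ULift.ext _ _ (ZMod.natCast_rightInverse y.down)

theorem ker_redP : RingHom.ker (redP.{u} p) = Ideal.span {(p : ULift.{u} (ZMod (p ^ 2)))} := by
  haveI : NeZero (p ^ 2) := ⟨pow_ne_zero 2 (Fact.out : p.Prime).ne_zero⟩
  refine le_antisymm (fun x hx => ?_) (Ideal.span_le.2 ?_)
  · have h1 : x = ((x.down.val : ℕ) : ULift.{u} (ZMod (p ^ 2))) :=
      ULift.ext _ _ (ZMod.natCast_rightInverse x.down).symm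
    rw [RingHom.mem_ker, h1, map_natCast] at hx
    obtain ⟨k, hk⟩ := (ZMod.natCast_eq_zero_iff _ _).1 (congrArg ULift.down hx)
    rw [h1, hk, Nat.cast_mul]
    exact Ideal.mul_mem_right _ _ (Ideal.mem_span_singleton_self _)
  · rintro _ rfl
    rw [SetLike.mem_coe, RingHom.mem_ker, map_natCast]
    exact ULift.ext _ _ (ZMod.natCast_self p)

instance : IsClosedImmersion (Spec.map (CommRingCat.ofHom (redP.{u} p))) :=
  IsClosedImmersion.spec_of_surjective _ (redP_surjective p)

theorem surjective_redP : Surjective (Spec.map (CommRingCat.ofHom (redP.{u} p))) := by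
  refine ⟨fun x => ?_⟩
  have hx : RingHom.ker (redP.{u} p) ≤ x.asIdeal := by
    rw [ker_redP, Ideal.span_singleton_le_iff_mem]
    refine x.isPrime.mem_of_pow_mem 2 ?_
    rw [← Nat.cast_pow]
    convert x.asIdeal.zero_mem
    exact ULift.ext _ _ (ZMod.natCast_self _)
  have := range_comap_of_surjective _ _ (redP_surjective.{u} p)
  exact (Set.ext_iff.1 this x).2 hx

theorem ker_redP_top :
    (Spec.map (CommRingCat.ofHom (redP.{u} p))).ker.ideal ⟨⊤, isAffineOpen_top _⟩ =
      Ideal.span {(p : Γ(Spec (CommRingCat.of (ULift.{u} (ZMod (p ^ 2)))), ⊤))} := by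
  let c := Spec.map (CommRingCat.ofHom (redP.{u} p))
  let eA := (Scheme.ΓSpecIso (CommRingCat.of (ULift.{u} (ZMod (p ^ 2))))).commRingCatIsoToRingEquiv
  have hn : c.appTop ≫ (Scheme.ΓSpecIso _).hom =
      (Scheme.ΓSpecIso _).hom ≫ CommRingCat.ofHom (redP.{u} p) := Scheme.ΓSpecIso_naturality _
  rw [Scheme.Hom.ker_apply]
  calc RingHom.ker c.appTop.hom = (RingHom.ker (redP.{u} p)).comap eA.toRingHom := by
        ext a
        rw [RingHom.mem_ker, Ideal.mem_comap, RingHom.mem_ker]
        have h := congr($hn a)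
        change (Scheme.ΓSpecIso _).hom (c.appTop a) = redP p (eA a) at h
        refine ⟨fun ha => ?_, fun ha => (ConcreteCategory.bijective_of_isIso (Scheme.ΓSpecIso _).hom).1 ?_⟩
        · show redP p (eA a) = 0
          rw [← h, ha, map_zero]
        · exact h.trans (ha.trans (map_zero _).symm)
    _ = Ideal.span {((p : ℕ) : Γ(Spec (CommRingCat.of (ULift.{u} (ZMod (p ^ 2)))), ⊤))} := by
        rw [ker_redP]
        ext a
        rw [Ideal.mem_comap, Ideal.mem_span_singleton, Ideal.mem_span_singleton]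
        rw [← map_natCast eA p]
        exact map_dvd_iff eA

variable {p}

/-- The ideal of the reduction modulo `p`. -/
theorem ker_app_eq_span_p {Y Z : Scheme.{u}} {i : Y ⟶ Z} {a : Y ⟶ Spec (CommRingCat.of (ULift.{u} (ZMod p)))}
    {b : Z ⟶ Spec (CommRingCat.of (ULift.{u} (ZMod (p ^ 2))))}
    (h : IsPullback i a b (Spec.map (CommRingCat.ofHom (redP.{u} p)))) (U : Z.affineOpens) :
    RingHom.ker (i.app U.1).hom = Ideal.span {(p : Γ(Z, U.1))} := by
  haveI : IsClosedImmersion i := MorphismProperty.of_isPullback (P := @IsClosedImmersion) h.flip inferInstance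
  have h1 : i.ker = (Spec.map (CommRingCat.ofHom (redP.{u} p))).ker.comap b := by
    rw [← Scheme.IdealSheafData.ker_fst_of_isClosedImmersion,
      ← Scheme.Hom.ker_comp_of_isIso h.isoPullback.hom, IsPullback.isoPullback_hom_fst]
  rw [← Scheme.Hom.ker_apply i U, h1, IdealStalkLib.comap_ideal _ b (isAffineOpen_top _) U.2 (fun _ _ => trivial),
    ker_redP_top, Ideal.map_span, Set.image_singleton, map_natCast]

/-- Flat schemes over `ℤ/p²` have `ann(p) = (p)`. -/
theorem ann_p {Z : Scheme.{u}} (b : Z ⟶ Spec (CommRingCat.of (ULift.{u} (ZMod (p ^ 2))))) [Flat b]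
    (U : Z.affineOpens) (z : Γ(Z, U.1)) (hz : (p : Γ(Z, U.1)) * z = 0) : z ∈ Ideal.span {(p : Γ(Z, U.1))} := by
  have h := HasRingHomProperty.appLE (P := @Flat) b inferInstance ⟨⊤, isAffineOpen_top _⟩ U (fun _ _ => trivial)
  let eA := (Scheme.ΓSpecIso (CommRingCat.of (ULift.{u} (ZMod (p ^ 2))))).commRingCatIsoToRingEquiv
  exact ann_p_of_flat p _ ((RingHom.Flat.comp_iff_of_bijective_right (g := eA.symm.toRingHom) eA.symm.bijective).2 h)
    (Fact.out : p.Prime).ne_zero z hz

end Groth.Agent.NCDLiftLib
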