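import Groth.Agent.NCDLiftLib.Chart

/-!
# Flat lifts of components of normal crossing divisors have principal ideals
-/

set_option autoImplicit false
set_option backward.isDefEq.respectTransparency false
set_option backward.isDefEq.respectTransparency.types false
set_option linter.style.haveILetI false

universe u

open CategoryTheory CategoryTheory.Limits AlgebraicGeometry TopologicalSpace

noncomputable section

namespace Groth.Agent.NCDLiftLib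

/-- Flatness of a closed subscheme, on affine opens. -/
theorem flat_appLE_subscheme_iff {Y T : Scheme.{u}} (g : Y ⟶ T) (K : Y.IdealSheafData) (V : T.affineOpens)
    (U : Y.affineOpens) (e : U.1 ≤ g ⁻¹ᵁ V.1) :
    ((K.subschemeι ≫ g).appLE V.1 (K.subschemeι ⁻¹ᵁ U.1) (fun _ hz => e hz)).hom.Flat ↔
      ((Ideal.Quotient.mk (K.ideal U)).comp (g.appLE V.1 U.1 e).hom).Flat := by
  rw [← Scheme.Hom.appLE_comp_appLE K.subschemeι g V.1 U.1 _ e le_rfl, ← Scheme.Hom.app_eq_appLE,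
    CommRingCat.hom_comp]
  let E := (Ideal.quotEquivOfEq (K.ker_subschemeι_app U).symm).trans
    (RingHom.quotientKerEquivOfSurjective (K.subschemeι_app_surjective U))
  rw [show (K.subschemeι.app U.1).hom = E.toRingHom.comp (Ideal.Quotient.mk (K.ideal U)) from RingHom.ext fun _ => rfl,
    RingHom.comp_assoc]
  exact RingHom.Flat.comp_iff_of_bijective_left E.bijective

variable {p : ℕ} [Fact p.Prime] {Sl S X Xl : Scheme.{u}}
  {gS : Sl ⟶ Spec (CommRingCat.of (ULift.{u} (ZMod (p ^ 2))))}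
  {iS : S ⟶ Sl} {fS : S ⟶ Spec (CommRingCat.of (ULift.{u} (ZMod p)))}
  {f : X ⟶ S} {g : Xl ⟶ Sl} {j : X ⟶ Xl}

theorem flat_iff_at [Flat gS] [Flat g] (hS : IsPullback iS fS gS (Spec.map (CommRingCat.ofHom (redP.{u} p))))
    (hX : IsPullback j f g iS) {r : ℕ} {D : Fin r → X.IdealSheafData} (hD : LogNCD.IsNCD D f) (m : Fin r)
    (K : Xl.IdealSheafData) (hK : K.comap j = D m) (x : Xl) :
    ∃ W : Xl.Opens, x ∈ W ∧ ∀ (U : Xl.affineOpens), U.1 ≤ W → ∀ (V : Sl.affineOpens) (e : U.1 ≤ g ⁻¹ᵁ V.1),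
      (((Ideal.Quotient.mk (K.ideal U)).comp (g.appLE V.1 U.1 e).hom).Flat →
        ∃ t ∈ nonZeroDivisors Γ(Xl, U.1), K.ideal U = Ideal.span {t}) ∧
      ∀ t, K.ideal U = Ideal.span {t} → ((Ideal.Quotient.mk (K.ideal U)).comp (g.appLE V.1 U.1 e).hom).Flat := by
  have hjS : IsPullback j (f ≫ fS) (g ≫ gS) (Spec.map (CommRingCat.ofHom (redP.{u} p))) := hX.paste_vert hS
  haveI : IsClosedImmersion iS := MorphismProperty.of_isPullback (P := @IsClosedImmersion) hS.flip inferInstance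
  haveI : IsClosedImmersion j := MorphismProperty.of_isPullback (P := @IsClosedImmersion) hX.flip inferInstance
  haveI := surjective_redP.{u} p
  haveI : Surjective j := MorphismProperty.of_isPullback (P := @Surjective) hjS.flip inferInstance
  obtain ⟨x₀, hx₀⟩ := j.surjective x
  obtain ⟨W, hxW, hW⟩ := exists_local_equation f hD m x₀
  have hclosed : IsClosed (j '' (W : Set X)ᶜ) := j.isClosedEmbedding.isClosedMap _ W.2.isClosed_compl
  refine ⟨⟨(j '' (W : Set X)ᶜ)ᶜ, hclosed.isOpen_compl⟩, ?_, fun U hU V e => ?_⟩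
  · rintro ⟨y, hy, hyx⟩
    exact hy (j.isClosedEmbedding.injective (hyx.trans hx₀.symm) ▸ hxW)
  let U₀ : X.affineOpens := ⟨j ⁻¹ᵁ U.1, U.2.preimage j⟩
  let V₀ : S.affineOpens := ⟨iS ⁻¹ᵁ V.1, V.2.preimage iS⟩
  have hU₀ : U₀.1 ≤ W := fun y hy => by
    by_contra hyW
    exact hU hy ⟨y, hyW, rfl⟩
  have e₀ : U₀.1 ≤ f ⁻¹ᵁ V₀.1 := by
    intro y hy
    show (f ≫ iS) y ∈ V.1
    rw [← hX.w]
    exact e hy
  obtain ⟨t₀, ht₀, hDt, hQ⟩ := hW U₀ hU₀ V₀ e₀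
  have hsq : ((p : Γ(Sl, V.1)) * (p : Γ(Sl, V.1))) = 0 := by
    have h0 : ((p : ULift.{u} (ZMod (p ^ 2))) * (p : ULift.{u} (ZMod (p ^ 2)))) = 0 := by
      rw [← Nat.cast_mul, ← sq]
      exact ULift.ext _ _ (ZMod.natCast_self _)
    have := congrArg ((gS.appLE ⊤ V.1 (fun _ _ => trivial)).hom.comp
      (Scheme.ΓSpecIso (CommRingCat.of (ULift.{u} (ZMod (p ^ 2))))).inv.hom) h0
    simpa only [map_mul, map_natCast, map_zero] using this
  have hmapK : (K.ideal U).map (j.app U.1).hom = Ideal.span {t₀} := by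
    rw [← hDt, ← hK, IdealStalkLib.comap_ideal K j U.2 U₀.2 le_rfl, ← Scheme.Hom.app_eq_appLE]
  refine flat_iff_principal (g.appLE V.1 U.1 e).hom (HasRingHomProperty.appLE (P := @Flat) g inferInstance V U e)
    (iS.app V.1).hom (j.app U.1).hom (f.appLE V₀.1 U₀.1 e₀).hom ?_ (iS.app_surjective V.1 V.2)
    (j.app_surjective U.1 U.2) (p : Γ(Sl, V.1)) hsq (ker_app_eq_span_p hS V) ?_ ?_ t₀ ht₀ hQ (K.ideal U) hmapK
  · rw [← CommRingCat.hom_comp, ← CommRingCat.hom_comp, Scheme.Hom.app_eq_appLE, Scheme.Hom.app_eq_appLE,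
      Scheme.Hom.appLE_comp_appLE, Scheme.Hom.appLE_comp_appLE]
    simp only [hX.w]
    rfl
  · rw [map_natCast]
    exact ker_app_eq_span_p hjS U
  · intro b hb
    rw [map_natCast] at hb ⊢
    exact ann_p (g ≫ gS) U b hb

/-- The criterion. -/
theorem flat_iff_effCartier [Flat gS] [Flat g] (hS : IsPullback iS fS gS (Spec.map (CommRingCat.ofHom (redP.{u} p))))
    (hX : IsPullback j f g iS) {r : ℕ} {D : Fin r → X.IdealSheafData} (hD : LogNCD.IsNCD D f) (m : Fin r)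
    (K : Xl.IdealSheafData) (hK : K.comap j = D m) :
    Flat (K.subschemeι ≫ g) ↔ ∀ x : Xl, ∃ U : Xl.affineOpens, x ∈ U.1 ∧
      ∃ t ∈ nonZeroDivisors Γ(Xl, U.1), K.ideal U = Ideal.span {t} := by
  constructor
  · intro hflat x
    obtain ⟨W, hxW, hW⟩ := flat_iff_at hS hX hD m K hK x
    obtain ⟨_, ⟨V, hV, rfl⟩, hxV, -⟩ := Sl.isBasis_affineOpens.exists_subset_of_mem_open (Set.mem_univ (g x)) isOpen_univ
    obtain ⟨_, ⟨U, hU, rfl⟩, hxU, hUle⟩ := Xl.isBasis_affineOpens.exists_subset_of_mem_open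
      (show x ∈ (W ⊓ g ⁻¹ᵁ V : Xl.Opens) from ⟨hxW, hxV⟩) (W ⊓ g ⁻¹ᵁ V).2
    refine ⟨⟨U, hU⟩, hxU, (hW ⟨U, hU⟩ (fun y hy => (hUle hy).1) ⟨V, hV⟩ (fun y hy => (hUle hy).2)).1 ?_⟩
    exact (flat_appLE_subscheme_iff g K ⟨V, hV⟩ ⟨U, hU⟩ _).1
      (HasRingHomProperty.appLE (P := @Flat) _ hflat ⟨V, hV⟩ ⟨_, hU.preimage K.subschemeι⟩ _)
  · intro hC
    refine (HasRingHomProperty.iff_exists_appLE (P := @Flat)
      (RingHom.Flat.stableUnderComposition.stableUnderCompositionWithLocalizationAway RingHom.Flat.holdsForLocalizationAway).1).2 fun z => ?_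
    let x := K.subschemeι z
    obtain ⟨W, hxW, hW⟩ := flat_iff_at hS hX hD m K hK x
    obtain ⟨U₁, hxU₁, t, -, ht⟩ := hC x
    obtain ⟨_, ⟨V, hV, rfl⟩, hxV, -⟩ := Sl.isBasis_affineOpens.exists_subset_of_mem_open (Set.mem_univ (g x)) isOpen_univ
    obtain ⟨_, ⟨U₂, hU₂, rfl⟩, hxU₂, hUle⟩ := Xl.isBasis_affineOpens.exists_subset_of_mem_open
      (show x ∈ (W ⊓ g ⁻¹ᵁ V : Xl.Opens) from ⟨hxW, hxV⟩) (W ⊓ g ⁻¹ᵁ V).2
    obtain ⟨_, ⟨U, hU, rfl⟩, hxU, hUle'⟩ := Xl.isBasis_affineOpens.exists_subset_of_mem_open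
      (show x ∈ (U₁.1 ⊓ U₂ : Xl.Opens) from ⟨hxU₁, hxU₂⟩) (U₁.1 ⊓ U₂).2
    have e : U ≤ g ⁻¹ᵁ V := fun y hy => (hUle (hUle' hy).2).2
    refine ⟨⟨V, hV⟩, ⟨_, hU.preimage K.subschemeι⟩, hxU, fun _ hy => e hy, ?_⟩
    refine (flat_appLE_subscheme_iff g K ⟨V, hV⟩ ⟨U, hU⟩ e).2 ?_
    have hUU₁ : (⟨U, hU⟩ : Xl.affineOpens) ≤ U₁ := fun y hy => (hUle' hy).1
    have hspan : K.ideal ⟨U, hU⟩ = Ideal.span {Xl.presheaf.map (homOfLE hUU₁).op t} := by
      rw [← K.map_ideal hUU₁, ht, Ideal.map_span, Set.image_singleton]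
    exact (hW ⟨U, hU⟩ (fun y hy => (hUle (hUle' hy).2).1) ⟨V, hV⟩ e).2 _ hspan

end Groth.Agent.NCDLiftLib
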