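import Groth.Agent.IdealStalkLib.Comap
import Mathlib.AlgebraicGeometry.AffineSpace
import Mathlib.AlgebraicGeometry.Morphisms.Flat

/-!
# Coordinate hyperplanes pulled back along flat morphisms
-/

set_option autoImplicit false
set_option backward.isDefEq.respectTransparency false
set_option backward.isDefEq.respectTransparency.types false
set_option linter.style.haveILetI false

universe u

open CategoryTheory CategoryTheory.Limits AlgebraicGeometry MvPolynomial TopologicalSpace

noncomputable section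

namespace Groth.Agent.NCDLiftLib

variable (ι : Type u) (i : ι)

/-- The ring of the integral affine space. -/
abbrev ZI : CommRingCat.{u} := CommRingCat.of (MvPolynomial ι (ULift.{u} ℤ))

/-- The ideal of a coordinate hyperplane. -/
abbrev hypI : Ideal (MvPolynomial ι (ULift.{u} ℤ)) := Ideal.span {MvPolynomial.X i}

/-- The coordinate hyperplane. -/
def hyp : Spec (CommRingCat.of (MvPolynomial ι (ULift.{u} ℤ) ⧸ hypI ι i)) ⟶ Spec (ZI ι) :=
  Spec.map (CommRingCat.ofHom (Ideal.Quotient.mk (hypI ι i)))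

instance : IsClosedImmersion (hyp ι i) := IsClosedImmersion.spec_of_surjective _ Ideal.Quotient.mk_surjective

theorem flat_quot : Module.Flat (ULift.{u} ℤ) (MvPolynomial ι (ULift.{u} ℤ) ⧸ hypI ι i) := by
  classical
  let s : MvPolynomial ι (ULift.{u} ℤ) →ₐ[ULift.{u} ℤ] MvPolynomial ι (ULift.{u} ℤ) :=
    MvPolynomial.aeval fun j => if j = i then 0 else MvPolynomial.X j
  have hs : ∀ a ∈ hypI ι i, s a = 0 := fun a ha => by
    obtain ⟨b, rfl⟩ := Ideal.mem_span_singleton'.1 ha
    simp [s]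
  let t : (MvPolynomial ι (ULift.{u} ℤ) ⧸ hypI ι i) →ₐ[ULift.{u} ℤ] MvPolynomial ι (ULift.{u} ℤ) :=
    Ideal.Quotient.liftₐ _ s hs
  refine Module.Flat.of_retract t.toLinearMap (Ideal.Quotient.mkₐ (ULift.{u} ℤ) (hypI ι i)).toLinearMap ?_
  have h : (Ideal.Quotient.mkₐ (ULift.{u} ℤ) (hypI ι i)).comp s = Ideal.Quotient.mkₐ (ULift.{u} ℤ) (hypI ι i) := by
    refine MvPolynomial.algHom_ext fun j => ?_
    by_cases hj : j = i
    · subst hj
      simp [s, Ideal.Quotient.eq_zero_iff_mem.2 (Ideal.mem_span_singleton_self (MvPolynomial.X j : MvPolynomial ι (ULift.{u} ℤ)))]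
    · simp [s, hj]
  refine LinearMap.ext fun a => ?_
  obtain ⟨a, rfl⟩ := Ideal.Quotient.mk_surjective a
  exact congr($h a)

theorem flat_hyp : Flat (terminal.from (Spec (CommRingCat.of (MvPolynomial ι (ULift.{u} ℤ) ⧸ hypI ι i)))) := by
  haveI : IsIso (terminal.from (Spec (CommRingCat.of (ULift.{u} ℤ)))) :=
    isIso_of_isTerminal specULiftZIsTerminal.{u} terminalIsTerminal _
  rw [← terminal.comp_from (Spec.map (CommRingCat.ofHom
      (algebraMap (ULift.{u} ℤ) (MvPolynomial ι (ULift.{u} ℤ) ⧸ hypI ι i)))),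
    MorphismProperty.cancel_right_of_respectsIso (P := @Flat), HasRingHomProperty.Spec_iff (P := @Flat)]
  exact RingHom.flat_algebraMap_iff.2 (flat_quot ι i)

variable {ι} {T Z : Scheme.{u}}

/-- The ideal cut out by the `i`-th coordinate of a morphism to affine space. -/
def hypK (c : Z ⟶ Spec (ZI ι)) : Z.IdealSheafData := (pullback.fst c (hyp ι i)).ker

theorem hypK_comap {W : Scheme.{u}} (j : W ⟶ Z) (c : Z ⟶ Spec (ZI ι)) :
    (hypK i c).comap j = hypK i (j ≫ c) := by
  rw [hypK, hypK, Scheme.IdealSheafData.ker_fst_of_isClosedImmersion, Scheme.IdealSheafData.ker_fst_of_isClosedImmersion,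
    Scheme.IdealSheafData.comap_comp]

/-- Flatness of the hyperplane. -/
theorem flat_hypK (v : T ⟶ AffineSpace ι Z) [Flat v] :
    Flat ((hypK i (v ≫ AffineSpace.toSpecMvPoly ι Z)).subschemeι ≫ v ≫ AffineSpace ι Z ↘ Z) := by
  haveI := flat_hyp ι i
  let t := AffineSpace.toSpecMvPoly ι Z
  let q := pullback.fst (v ≫ t) (hyp ι i)
  haveI : IsClosedImmersion q := inferInstance
  have h1 : Flat (pullback.fst t (hyp ι i) ≫ AffineSpace ι Z ↘ Z) := by
    have sq : IsPullback (pullback.fst t (hyp ι i) ≫ AffineSpace ι Z ↘ Z) (pullback.snd t (hyp ι i))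
        (terminal.from Z) (terminal.from _) := by
      have := (IsPullback.of_hasPullback t (hyp ι i)).paste_horiz
        (IsPullback.of_hasPullback (terminal.from Z) (terminal.from (Spec (ZI ι))))
      rw [show hyp ι i ≫ terminal.from (Spec (ZI ι)) = terminal.from _ from terminal.comp_from _] at this
      exact this
    exact MorphismProperty.of_isPullback (P := @Flat) sq.flip (flat_hyp ι i)
  have h2 : Flat (q ≫ v ≫ AffineSpace ι Z ↘ Z) := by
    let r : pullback (v ≫ t) (hyp ι i) ⟶ pullback t (hyp ι i) :=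
      pullback.map (v ≫ t) (hyp ι i) t (hyp ι i) v (𝟙 _) (𝟙 _) (by simp) (by simp)
    have sq : IsPullback r q (pullback.fst t (hyp ι i)) v := by
      refine IsPullback.of_right (h₁₁ := r) (h₁₂ := pullback.snd t (hyp ι i)) ?_ (by simp [r, q]) (IsPullback.of_hasPullback t (hyp ι i)).flip
      rw [show r ≫ pullback.snd t (hyp ι i) = pullback.snd (v ≫ t) (hyp ι i) from by simp [r]]
      exact (IsPullback.of_hasPullback (v ≫ t) (hyp ι i)).flip
    haveI : Flat r := MorphismProperty.of_isPullback (P := @Flat) sq.flip inferInstance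
    rw [← sq.w_assoc]
    exact MorphismProperty.comp_mem _ _ _ inferInstance h1
  show Flat (q.ker.subschemeι ≫ v ≫ AffineSpace ι Z ↘ Z)
  rw [← MorphismProperty.cancel_left_of_respectsIso (P := @Flat) q.toImage, ← Category.assoc]
  rw [show q.toImage ≫ q.ker.subschemeι = q from q.toImage_imageι]
  exact h2

theorem ker_hyp_top : (hyp ι i).ker.ideal ⟨⊤, isAffineOpen_top _⟩ =
    Ideal.span {(Scheme.ΓSpecIso (ZI ι)).inv (MvPolynomial.X i)} := by
  have hn : (hyp ι i).appTop ≫ (Scheme.ΓSpecIso _).hom =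
      (Scheme.ΓSpecIso (ZI ι)).hom ≫ CommRingCat.ofHom (Ideal.Quotient.mk (hypI ι i)) :=
    Scheme.ΓSpecIso_naturality _
  rw [Scheme.Hom.ker_apply]
  refine le_antisymm (fun a ha => ?_) (Ideal.span_le.2 ?_)
  · have h : (Scheme.ΓSpecIso _).hom ((hyp ι i).appTop a) =
        Ideal.Quotient.mk (hypI ι i) ((Scheme.ΓSpecIso (ZI ι)).hom a) := congr($hn a)
    rw [show (hyp ι i).appTop a = 0 from ha, map_zero] at h
    obtain ⟨b, hb⟩ := Ideal.mem_span_singleton'.1 (Ideal.Quotient.eq_zero_iff_mem.1 h.symm)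
    refine Ideal.mem_span_singleton'.2 ⟨(Scheme.ΓSpecIso (ZI ι)).inv b, ?_⟩
    rw [← map_mul, hb]
    exact congr($((Scheme.ΓSpecIso (ZI ι)).hom_inv_id) a)
  · rintro _ rfl
    refine (ConcreteCategory.bijective_of_isIso (Scheme.ΓSpecIso _).hom).1 ?_
    have h : (Scheme.ΓSpecIso _).hom ((hyp ι i).appTop ((Scheme.ΓSpecIso (ZI ι)).inv (MvPolynomial.X i))) =
        Ideal.Quotient.mk (hypI ι i) ((Scheme.ΓSpecIso (ZI ι)).hom ((Scheme.ΓSpecIso (ZI ι)).inv (MvPolynomial.X i))) :=
      congr($hn _)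
    rw [show (Scheme.ΓSpecIso (ZI ι)).hom ((Scheme.ΓSpecIso (ZI ι)).inv (MvPolynomial.X i)) = MvPolynomial.X i from
      congr($((Scheme.ΓSpecIso (ZI ι)).inv_hom_id) (MvPolynomial.X i)),
      Ideal.Quotient.eq_zero_iff_mem.2 (Ideal.mem_span_singleton_self _)] at h
    exact h.trans (map_zero _).symm

theorem appLE_top {A B : Scheme.{u}} (f : A ⟶ B) (U : A.Opens) (e : U ≤ f ⁻¹ᵁ ⊤) (a : Γ(B, ⊤)) :
    f.appLE ⊤ U e a = A.presheaf.map (homOfLE (le_top : U ≤ ⊤)).op (f.appTop a) := rfl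

theorem hypK_ideal (c : Z ⟶ Spec (ZI ι)) (U : Z.affineOpens) :
    (hypK i c).ideal U =
      Ideal.span {Z.presheaf.map (homOfLE (le_top : U.1 ≤ ⊤)).op (AffineSpace.toSpecMvPolyIntEquiv ι c i)} := by
  rw [hypK, Scheme.IdealSheafData.ker_fst_of_isClosedImmersion,
    IdealStalkLib.comap_ideal _ c (isAffineOpen_top _) U.2 (fun _ _ => trivial), ker_hyp_top,
    Ideal.map_span, Set.image_singleton, appLE_top]
  rfl

end Groth.Agent.NCDLiftLib
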