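import Groth.Agent.NCDLiftLib.Hyper
import Groth.Agent.EtGlueLib.UnivHomeoMain
import Groth.Agent.SmoothPairLib.Main
import Groth.Prelude.Def_LogNCD

/-!
# Local lifts of normal crossing pairs along a thickening
-/

set_option autoImplicit false
set_option backward.isDefEq.respectTransparency false
set_option backward.isDefEq.respectTransparency.types false
set_option linter.style.haveILetI false

universe u

open CategoryTheory CategoryTheory.Limits AlgebraicGeometry TopologicalSpace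

noncomputable section

namespace Groth.Agent.NCDLiftLib

variable {Sl S X : Scheme.{u}} (iS : S ⟶ Sl) [IsClosedImmersion iS] [Surjective iS] (f : X ⟶ S)

theorem smooth_affineSpace (ι : Type u) [Finite ι] (T : Scheme.{u}) : Smooth (AffineSpace ι T ↘ T) :=
  MorphismProperty.pullback_fst _ _ <| by
    haveI : IsIso (terminal.from (Spec (CommRingCat.of (ULift.{u} ℤ)))) :=
      isIso_of_isTerminal specULiftZIsTerminal.{u} terminalIsTerminal _
    rw [← terminal.comp_from (Spec.map (CommRingCat.ofHom (MvPolynomial.C (σ := ι) (R := ULift.{u} ℤ)))),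
      MorphismProperty.cancel_right_of_respectsIso (P := @Smooth), HasRingHomProperty.Spec_iff (P := @Smooth)]
    show RingHom.Smooth (MvPolynomial.C : ULift.{u} ℤ →+* MvPolynomial ι (ULift.{u} ℤ))
    rw [← MvPolynomial.algebraMap_eq, RingHom.smooth_algebraMap]
    exact ⟨inferInstance, inferInstance⟩

/-- An étale chart lifts, with the zero loci of its coordinates. -/
theorem exists_lift_chart (W : X.Opens) (ι : Type u) [Finite ι] (v : ι → Γ(W, ⊤))
    [Etale (AffineSpace.homOfVector (W.ι ≫ f) v)] :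
    ∃ (Ul : Scheme.{u}) (g : Ul ⟶ Sl) (j : (W : Scheme.{u}) ⟶ Ul),
      Flat g ∧ IsPullback j (W.ι ≫ f) g iS ∧
        ∀ i : ι, ∃ K : Ul.IdealSheafData, Flat (K.subschemeι ≫ g) ∧ ∀ U : (W : Scheme.{u}).affineOpens,
          (K.comap j).ideal U = Ideal.span {(W : Scheme.{u}).presheaf.map (homOfLE (le_top : U.1 ≤ ⊤)).op (v i)} := by
  let q := AffineSpace.homOfVector (W.ι ≫ f) v
  let a := AffineSpace.map ι iS
  have ha : IsPullback a (AffineSpace ι S ↘ S) (AffineSpace ι Sl ↘ Sl) iS := AffineSpace.isPullback_map iS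
  haveI : IsClosedImmersion a := MorphismProperty.of_isPullback (P := @IsClosedImmersion) ha.flip inferInstance
  haveI : Surjective a := MorphismProperty.of_isPullback (P := @Surjective) ha.flip inferInstance
  obtain ⟨Ul, v', j, hv', hj⟩ := EtGlueLib.exists_isPullback (f := a) (u := q) fun z =>
    EtGlueLib.exists_model_univHomeo a q z
  haveI := hv'
  haveI := smooth_affineSpace ι Sl
  refine ⟨Ul, v' ≫ AffineSpace ι Sl ↘ Sl, j, inferInstance, ?_, fun i =>
    ⟨hypK i (v' ≫ AffineSpace.toSpecMvPoly ι Sl), flat_hypK i v', fun U => ?_⟩⟩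
  · have h := hj.paste_vert ha
    rwa [show q ≫ AffineSpace ι S ↘ S = W.ι ≫ f from AffineSpace.homOfVector_over _ _] at h
  · rw [hypK_comap, hypK_ideal]
    congr 3
    rw [reassoc_of% hj.w, AffineSpace.map_toSpecMvPoly, AffineSpace.homOfVector_toSpecMvPoly]
    exact congrFun ((AffineSpace.toSpecMvPolyIntEquiv ι).apply_symm_apply v) i

/-- Affine opens of an open subscheme: ideals of a restricted ideal sheaf. -/
theorem comap_ι_ideal (W : X.Opens) (J : X.IdealSheafData) (V : (W : Scheme.{u}).affineOpens) :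
    (J.comap W.ι).ideal V =
      (J.ideal ⟨W.ι ''ᵁ V.1, V.2.image_of_isOpenImmersion W.ι⟩).map
        (W.ι.appLE (W.ι ''ᵁ V.1) V.1 (W.ι.preimage_image_eq V.1).ge).hom :=
  IdealStalkLib.comap_ideal J W.ι _ V.2 _

theorem appLE_sectOn (W : X.Opens) (V : (W : Scheme.{u}).Opens) (s : Γ(W, ⊤)) :
    W.ι.appLE (W.ι ''ᵁ V) V (W.ι.preimage_image_eq V).ge (LogNCD.sectOn W (W.ι_image_le V) s) =
      (W : Scheme.{u}).presheaf.map (homOfLE (le_top : V ≤ ⊤)).op s := by
  rw [LogNCD.sectOn_apply, ← CommRingCat.comp_apply, ← CommRingCat.comp_apply]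
  refine congrArg (fun φ : Γ(W, ⊤) ⟶ Γ(W, V) => φ s) ?_
  simp only [Scheme.Opens.topIso_hom, Scheme.Hom.appLE, Scheme.Opens.ι_app]
  change X.presheaf.map _ ≫ X.presheaf.map _ ≫ X.presheaf.map _ ≫ X.presheaf.map _ = X.presheaf.map _
  rw [← Functor.map_comp, ← Functor.map_comp, ← Functor.map_comp]
  rfl

theorem exists_chart_noComp [Smooth f] (x : X) :
    ∃ (W : X.Opens) (ι : Type u) (_ : Finite ι) (v : ι → Γ(W, ⊤)), x ∈ W ∧
      Etale (AffineSpace.homOfVector (W.ι ≫ f) v) := by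
  obtain ⟨U, -, r, m, v, hx, hv, -⟩ := SmoothPairLib.exists_chart f f (𝟙 X) (Category.id_comp f) x
  exact ⟨U, _, inferInstance, _, hx, hv⟩

/-- A normal crossing pair lifts locally. -/
theorem exists_lift_pair [Smooth f] {r : ℕ} (D : Fin r → X.IdealSheafData) (hD : LogNCD.IsNCD D f) (x : X) :
    ∃ U : X.Opens, x ∈ U ∧ ∃ (Ul : Scheme.{u}) (g : Ul ⟶ Sl) (j : (U : Scheme.{u}) ⟶ Ul),
      Flat g ∧ IsPullback j (U.ι ≫ f) g iS ∧
        ∃ Dl : Fin r → Ul.IdealSheafData, ∀ m, (Dl m).comap j = (D m).comap U.ι ∧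
          Flat ((Dl m).subschemeι ≫ g) := by
  classical
  obtain ⟨W, ι, hfin, v, e, hx, hv, he, hno⟩ : ∃ (W : X.Opens) (ι : Type u) (_ : Finite ι) (v : ι → Γ(W, ⊤))
      (e : LogNCD.Through D x → ι), x ∈ W ∧ Etale (AffineSpace.homOfVector (W.ι ≫ f) v) ∧
      (∀ (i : LogNCD.Through D x) (U : X.affineOpens) (h : U.1 ≤ W),
        (D i.1).ideal U = Ideal.span {LogNCD.sectOn W h (v (e i))}) ∧
      (∀ (i : Fin r), x ∉ (D i).support → ∀ (U : X.affineOpens), U.1 ≤ W → (D i).ideal U = ⊤) := by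
    by_cases h : Nonempty (LogNCD.Through D x)
    · obtain ⟨W, hx, n, v, e, -, hv, he, hno⟩ := hD x h
      exact ⟨W, ULift.{u} (Fin n), inferInstance, v, fun i => ULift.up (e i), hx, hv, he, hno⟩
    · obtain ⟨W₀, ι, hfin, v₀, hx, hv⟩ := exists_chart_noComp f x
      let Z : Set X := ⋃ i : Fin r, ((D i).support : Set X)
      have hZ : IsClosed Z := isClosed_iUnion_of_finite fun i => (D i).support.isClosed
      let O : X.Opens := ⟨Zᶜ, hZ.isOpen_compl⟩
      have hxO : x ∈ O := fun hxZ => by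
        obtain ⟨i, hi⟩ := Set.mem_iUnion.1 hxZ
        exact h ⟨⟨i, hi⟩⟩
      let W := W₀ ⊓ O
      have hle : W ≤ W₀ := inf_le_left
      refine ⟨W, ι, hfin, fun i => (X.homOfLE hle).appTop (v₀ i), fun i => (h ⟨i⟩).elim, ⟨hx, hxO⟩, ?_,
        fun i => (h ⟨i⟩).elim, fun i _ U hU => ?_⟩
      · haveI := hv
        have : AffineSpace.homOfVector (W.ι ≫ f) (fun i => (X.homOfLE hle).appTop (v₀ i)) =
            X.homOfLE hle ≫ AffineSpace.homOfVector (W₀.ι ≫ f) v₀ := by
          rw [AffineSpace.comp_homOfVector, Scheme.homOfLE_ι_assoc]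
          rfl
        rw [this]
        infer_instance
      · by_contra hne
        obtain ⟨m, hm, hle'⟩ := Ideal.exists_le_maximal _ hne
        haveI := hm.isPrime
        let y := U.2.fromSpec ⟨m, hm.isPrime⟩
        have hyU : y ∈ U.1 := by rw [← SetLike.mem_coe, ← U.2.range_fromSpec]; exact ⟨_, rfl⟩
        have hy : y ∈ ((D i).support : Set X) ∩ U.1 := by
          rw [(D i).coe_support_inter U, ← U.2.fromSpec_image_zeroLocus]
          exact ⟨⟨m, hm.isPrime⟩, hle', rfl⟩
        exact (hU hyU).2 (Set.mem_iUnion.2 ⟨i, hy.1⟩)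
  haveI := hfin
  haveI := hv
  obtain ⟨Ul, g, j, hg, hj, hK⟩ := exists_lift_chart iS f W ι v
  choose K hKf hK using hK
  have key : ∀ m, ∃ J : Ul.IdealSheafData, J.comap j = (D m).comap W.ι ∧ Flat (J.subschemeι ≫ g) := fun m => by
    by_cases h : x ∈ (D m).support
    · refine ⟨K (e ⟨m, h⟩), Scheme.IdealSheafData.ext (funext fun V => ?_), hKf (e ⟨m, h⟩)⟩
      rw [hK, comap_ι_ideal, he ⟨m, h⟩ _ (W.ι_image_le V.1), Ideal.map_span, Set.image_singleton,
        appLE_sectOn]
    · refine ⟨⊤, Scheme.IdealSheafData.ext (funext fun V => ?_), ?_⟩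
      · rw [comap_ι_ideal, hno m h _ (W.ι_image_le V.1), Ideal.map_top,
          Scheme.IdealSheafData.comap_top]
        rfl
      · haveI : IsEmpty (⊤ : Ul.IdealSheafData).subscheme := inferInstance
        exact inferInstance
  choose Dl hDl using key
  exact ⟨W, hx, Ul, g, j, hg, hj, Dl, hDl⟩

end Groth.Agent.NCDLiftLib
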